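import Cfsg.Agent.TwoF.DC.St.W

/-!
# TwoF, defining characteristic, `BoxSt` (3): the structure of `k ⊗ V` (helper85)
-/

set_option autoImplicit false
set_option linter.unusedSectionVars false
set_option linter.unusedVariables false

namespace Cfsg.Agent.TwoF.DC

open Module Finset Cfsg.Agent.H45.Uni Cfsg.Agent.H45.UniE Cfsg.Agent.TwoF.Gen
open scoped TensorProduct

/-- a Frobenius map with descent -/
structure Frb (p : ℕ) {k Y U : Type} [Field k] [Group Y] [AddCommGroup U] [Module k U] (ρ : Representation k Y U)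
    (F : U →+ U) (P : Subgroup Y → Prop) : Prop where
  smul : ∀ (a : k) v, F (a • v) = a ^ p • F v
  rho : ∀ y v, F (ρ y v) = ρ y (F v)
  inj : Function.Injective F
  fixed : ∀ X : Submodule k U, X ≠ ⊥ → (∀ v ∈ X, F v ∈ X) → ∃ v ∈ X, v ≠ 0 ∧ F v = v
  top : ∀ H, P H → ∀ X : Submodule k U, X ≠ ⊥ → (∀ v ∈ X, F v ∈ X) → Inv ρ H X → X = ⊤

theorem exists_frb (p : ℕ) [hp : Fact p.Prime] (k : Type) [Field k] [CharP k p] [Algebra (ZMod p) k] {Y V : Type}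
    [Group Y] [AddCommGroup V] [Module (ZMod p) V] [Finite V] (ρ : Representation (ZMod p) Y V) :
    ∃ F, Frb p (bc k ρ) F (Irr ρ) := by
  classical
  let F := (((frobenius k p).toAddMonoidHom.toZModLinearMap p).rTensor V).toAddMonoidHom
  have h1 : ∀ a v, F (a ⊗ₜ v) = (a ^ p) ⊗ₜ v := fun _ _ => rfl
  have h2 : ∀ (a : k) x, F (a • x) = a ^ p • F x := fun a x => by
    induction x with
    | zero => simp only [smul_zero, map_zero]
    | tmul c v => rw [TensorProduct.smul_tmul', h1, h1, TensorProduct.smul_tmul', smul_eq_mul, smul_eq_mul, mul_pow]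
    | add x y hx hy => rw [smul_add, map_add, hx, hy, map_add, smul_add]
  let b := Algebra.TensorProduct.basis k (Module.finBasis (ZMod p) V)
  have h3 : ∀ x i, b.repr (F x) i = b.repr x i ^ p := fun x i => by
    conv_lhs => rw [← b.sum_repr x, map_sum]
    have h : ∀ j, F (b j) = b j := fun j => by rw [Algebra.TensorProduct.basis_apply, h1, one_pow]
    simp only [h2, h]
    exact congrFun (b.repr_sum_self fun j => b.repr x j ^ p) i
  have h4 : ∀ X : Submodule k (k ⊗[ZMod p] V), X ≠ ⊥ → (∀ v ∈ X, F v ∈ X) → ∃ v ∈ X, v ≠ 0 ∧ F v = v := by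
    intro X h0 hX
    obtain ⟨x, ⟨h5, h6⟩, h7⟩ := WellFounded.has_min (measure fun x => (b.repr x).support.card).wf {x | x ∈ X ∧ x ≠ 0}
      ((Submodule.ne_bot_iff X).1 h0)
    obtain ⟨i, hi⟩ := Finsupp.support_nonempty_iff.2 (b.repr.map_ne_zero_iff.2 h6)
    have h8 := Finsupp.mem_support_iff.1 hi
    refine ⟨(b.repr x i)⁻¹ • x, X.smul_mem _ h5, smul_ne_zero (inv_ne_zero h8) h6, sub_eq_zero.1 ?_⟩
    by_contra h9
    refine h7 _ ⟨sub_mem (hX _ (X.smul_mem _ h5)) (X.smul_mem _ h5), h9⟩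
      (Finset.card_lt_card ⟨fun j hj => ?_, fun h => Finsupp.mem_support_iff.1 (h hi) ?_⟩)
    · by_contra h10
      refine Finsupp.mem_support_iff.1 hj ?_
      rw [map_sub, Finsupp.sub_apply, h3, map_smul, Finsupp.smul_apply, Finsupp.notMem_support_iff.1 h10, smul_zero,
        zero_pow hp.out.ne_zero, sub_zero]
    · rw [map_sub, Finsupp.sub_apply, h3, map_smul, Finsupp.smul_apply, smul_eq_mul, inv_mul_cancel₀ h8, one_pow, sub_self]
  refine ⟨F, h2, fun y x => ?_, (injective_iff_map_eq_zero _).2 fun x hx => b.repr.map_eq_zero_iff.1 (Finsupp.ext fun i =>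
    (pow_eq_zero_iff hp.out.ne_zero).1 (by rw [← h3, hx, map_zero]; rfl)), h4, fun H hH X h0 hX hI => ?_⟩
  · induction x with
    | zero => simp only [map_zero]
    | tmul c v => rfl
    | add x y hx hy => simp only [map_add, hx, hy]
  obtain ⟨x, h5, h6, h7⟩ := h4 X h0 hX
  choose c hc using fun i => (mem_bot_iff_intCast p k).1
    ((Subfield.mem_bot_iff_pow_eq_self k p).2 ((h3 x i).symm.trans (by rw [h7])))
  have h8 : x = 1 ⊗ₜ ∑ i, c i • Module.finBasis (ZMod p) V i := by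
    rw [TensorProduct.tmul_sum, ← b.sum_repr x]
    refine Finset.sum_congr rfl fun i _ => ?_
    rw [← hc, Int.cast_smul_eq_zsmul, Algebra.TensorProduct.basis_apply, TensorProduct.tmul_smul]
  rcases hH ((X.restrictScalars (ZMod p)).comap (TensorProduct.mk (ZMod p) k V 1)) fun y hy v hv => hI y hy _ hv with h | h
  · rw [h8] at h5
    rw [(Submodule.eq_bot_iff _).1 h _ h5, TensorProduct.tmul_zero] at h8
    exact absurd h8 h6
  · rw [eq_top_iff, ← b.span_eq, Submodule.span_le]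
    rintro _ ⟨i, rfl⟩
    rw [Algebra.TensorProduct.basis_apply]
    exact h.ge (Submodule.mem_top (x := Module.finBasis (ZMod p) V i))

theorem finrank_le_of_semi {k U : Type} [Field k] [AddCommGroup U] [Module k U] [FiniteDimensional k U] {ω : k → k}
    (hω : Function.Surjective ω) {F : U →+ U} (hF : ∀ a v, F (a • v) = ω a • F v) (hi : Function.Injective F)
    {X X' : Submodule k U} (h : ∀ v ∈ X, F v ∈ X') : finrank k X ≤ finrank k X' :=
  finrank_le_finrank_of_rank_le_rank (lift_rank_le_of_surjective_injective ω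
    { toFun := fun v => ⟨F v, h v v.2⟩
      map_zero' := Subtype.ext F.map_zero
      map_add' := fun a b => Subtype.ext (F.map_add a b) } hω
    (fun a b e => Subtype.ext (hi (congrArg Subtype.val e))) fun a v => Subtype.ext (hF a v)) (rank_lt_aleph0 _ _)

theorem stable_iSup {k U : Type} [Field k] [AddCommGroup U] [Module k U] {F : U →+ U} {I : Type} {P : I → Prop}
    {X : I → Submodule k U} (h : ∀ i, P i → ∃ j, P j ∧ ∀ v ∈ X i, F v ∈ X j) :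
    ∀ v ∈ ⨆ (i) (_ : P i), X i, F v ∈ ⨆ (i) (_ : P i), X i := fun v hv => by
  rw [iSup_subtype'] at hv
  refine Submodule.iSup_induction (motive := fun v => F v ∈ ⨆ (i) (_ : P i), X i) _ hv (fun i v hv => ?_)
    (by rw [map_zero]; exact zero_mem _) fun x y hx hy => by rw [map_add]; exact add_mem hx hy
  obtain ⟨j, h1, h2⟩ := h i i.2
  exact le_iSup₂_of_le (f := fun i (_ : P i) => X i) j h1 le_rfl (h2 v hv)

theorem Cyc.eq_one {k T W : Type} [Field k] [Group T] [AddCommGroup W] [Module k W] {σ : Representation k T W}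
    {P : Subgroup T} {c : W} (h : Cyc P σ c) {θ : Module.End k W} (hθ : θ ∈ Hom σ σ) (hc : θ c = c) : θ = 1 :=
  sub_eq_zero.1 (h.eq_zero (sub_mem hθ fun _ _ => rfl) (sub_eq_zero.2 hc))

variable {p : ℕ} [hp : Fact p.Prime] {ι Φ k G : Type} [Fintype ι] [DecidableEq ι] [Fintype Φ] [DecidableEq Φ] [Field k]
  [IsAlgClosed k] [CharP k p] [Group G] {D : RDat p ι Φ k G} {T S : Type} [Group T] [Finite T] [Group S]
  {Y U : Type} [Group Y] [AddCommGroup U] [Module k U] [FiniteDimensional k U]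

namespace Std

variable {M : Std D T S} {C : Can D} (hF : C.Fa) (hP : M.Pow C) {ρ : Representation k Y U} {ψ : T →* Y}
  {F : U →+ U} {P : Subgroup Y → Prop}

theorem act_unsh (m : Fin M.f → ι → ℕ) : M.act 1 1 (M.act M.σ (M.f - 1) m) = m := by
  rw [M.act_act (Commute.refl _), one_mul, Nat.add_sub_cancel' M.f_pos]
  simpa only [pow_one, mul_one] using M.act_pow_mul 1 m

theorem rho_conj {y : Y} {t t' : T} (h : y * ψ t * y⁻¹ = ψ t') (v : U) : ρ y (ρ (ψ t) v) = ρ (ψ t') (ρ y v) := by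
  rw [← h, ← rho_mul, ← rho_mul, inv_mul_cancel_right]

theorem move {y : Y} {s : T} {h : G} {γ : M.Gr} {j : ℕ} (H : M.Acts ψ y s h γ j) (n : Fin M.f → ι → ℕ) :
    (M.Vc (ρ.comp ψ) n).map (ρ y) = M.Vc (ρ.comp ψ) (M.act γ j n) := by
  obtain ⟨β, h1, h2⟩ := H.exists_β
  obtain ⟨Ξ, h3⟩ : ∃ Ξ : M.Wc (M.act γ j n) ≃ₗ[k] M.Wc n, ∀ t F, Ξ (M.ρW _ (β t) F) = M.ρW n t (Ξ F) :=
    ⟨_, fun t => M.XiE_ρ γ j _ rfl (h2 t)⟩
  refine le_antisymm (map_Iso_le (σ := M.ρW n) (σ' := M.ρW _) (ρ := ρ.comp ψ) (Ξ := Ξ.toLinearMap) Ξ.surjective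
    β.surjective h3 fun t => rho_conj (h1 t)) fun v hv => ⟨ρ y⁻¹ v, ?_, rho_apply_inv ρ y v⟩
  refine map_Iso_le (σ' := M.ρW n) (σ := M.ρW _) (ρ := ρ.comp ψ) (Ξ := Ξ.symm.toLinearMap) Ξ.symm.surjective
    β.symm.surjective (fun t F => Ξ.symm_apply_eq.2 ?_) (fun t => rho_conj ?_) ⟨v, hv, rfl⟩
  · conv_rhs => rw [← β.apply_symm_apply t]
    exact ((h3 _ _).trans (congrArg _ (Ξ.apply_symm_apply F))).symm
  · conv_lhs => rw [← β.apply_symm_apply t, ← h1]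
    group

include hF hP

theorem semi (H : Frb p ρ F P) {n : Fin M.f → ι → ℕ} (hn : n ∈ M.pats) :
    (∀ v ∈ Hv (M.ρW (M.act 1 1 n)) (ρ.comp ψ) (M.cW _), F v ∈ Hv (M.ρW n) (ρ.comp ψ) (M.cW n)) ∧
      ∀ v ∈ M.Vc (ρ.comp ψ) (M.act 1 1 n), F v ∈ M.Vc (ρ.comp ψ) n := by
  refine (cyc hF hP (M.act_mem hn 1 1)).semi (cyc hF hP hn) (ω := frobenius k p) (surjective_frobenius k p) (map_zero _)
    H.smul (fun t => H.rho _) fun β hβ => (lc_eq_zero hF hP (M.act_mem hn 1 1)).2 fun t => ?_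
  have h1 := (lc_eq_zero hF hP hn).1 hβ t
  rw [Finsupp.support_mapRange_of_injective _ _ (frobenius k p).injective] at h1
  refine (frobenius k p).injective ?_
  rw [map_sum, map_zero, ← h1]
  exact Finset.sum_congr rfl fun s _ => by rw [map_mul, ← M.cP_shift n]; rfl

theorem mult_eq {n : Fin M.f → ι → ℕ} (hn : n ∈ M.pats) :
    M.mult (ρ.comp ψ) n = finrank k (Hv (M.ρW n) (ρ.comp ψ) (M.cW n)) := (cyc hF hP hn).finrank_Hv.symm

theorem Hv_ne {n : Fin M.f → ι → ℕ} (hn : n ∈ M.pats) (h : M.mult (ρ.comp ψ) n ≠ 0) :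
    Hv (M.ρW n) (ρ.comp ψ) (M.cW n) ≠ ⊥ := fun e => h (by rw [mult_eq hF hP hn, e, finrank_bot])

theorem Vc_ne {n : Fin M.f → ι → ℕ} (hn : n ∈ M.pats) (h : M.mult (ρ.comp ψ) n ≠ 0) : M.Vc (ρ.comp ψ) n ≠ ⊥ :=
  fun e => Hv_ne hF hP hn h (le_bot_iff.1 (e ▸ Hv_le _))

theorem fix {n : Fin M.f → ι → ℕ} (hn : n ∈ M.pats) (B : Subgroup T) :
    finrank k ↥(M.Vc (ρ.comp ψ) n ⊓ fx ρ (B.map ψ)) = M.mult (ρ.comp ψ) n * finrank k (M.fxW n B) := by
  have := hP.fd n hn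
  rw [← fx_comp, ← M.finrank_fxW]
  exact (cyc hF hP hn).finrank_fx M.hyp.Up B

theorem shift (H : Frb p ρ F P) : ∀ n ∈ M.pats, M.mult (ρ.comp ψ) (M.act 1 1 n) = M.mult (ρ.comp ψ) n :=
  (Finset.sum_eq_sum_iff_of_le fun n hn => by
    rw [mult_eq hF hP hn, mult_eq hF hP (M.act_mem hn 1 1)]
    exact finrank_le_of_semi (surjective_frobenius k p) H.smul H.inj (semi hF hP H hn).1).1
    (M.sum_act (Commute.one_left _) (fun n hn => M.act_mem hn 1 1) _)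

theorem span (H : Frb p ρ F P) (h1 : P ⊤) (h2 : ψ.range.Normal) : ⨆ n ∈ M.pats, M.Vc (ρ.comp ψ) n = ⊤ := by
  rcases subsingleton_or_nontrivial U with h0 | h0
  · exact Subsingleton.elim _ _
  have h3 : ∀ X : Submodule k U, Inv (ρ.comp ψ : Representation k T U) ⊤ X →
      (∀ X' ≤ X, Inv (ρ.comp ψ : Representation k T U) ⊤ X' → X' = ⊥ ∨ X' = X) → X ≤ ⨆ n ∈ M.pats, M.Vc (ρ.comp ψ) n := by
    intro X h4 h5
    by_cases h6 : X = ⊥
    · exact h6 ▸ bot_le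
    obtain ⟨n, h7, h8⟩ := exists_pat hF hP h4 h6 h5
    exact le_iSup₂_of_le n h7 h8
  refine H.top ⊤ h1 _ (fun e => ?_) (stable_iSup fun m hm => ⟨_, M.act_mem hm _ _, fun v hv =>
    (semi hF hP H (M.act_mem hm M.σ (M.f - 1))).2 v (by rwa [act_unsh])⟩) fun y _ => ?_
  · obtain ⟨X, -, h4⟩ := exists_minimal_le_of_wellFoundedLT
      (fun X : Submodule k U => X ≠ ⊥ ∧ Inv (ρ.comp ψ : Representation k T U) ⊤ X) ⊤ ⟨top_ne_bot, inv_top _⟩
    exact h4.prop.1 (le_bot_iff.1 (e ▸ h3 X h4.prop.2 fun X' h5 h6 =>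
      or_iff_not_imp_left.2 fun h7 => le_antisymm h5 (h4.le_of_le ⟨h7, h6⟩ h5)))
  show ⨆ n ∈ M.pats, M.Vc (ρ.comp ψ) n ≤ Submodule.comap (ρ y) (⨆ n ∈ M.pats, M.Vc (ρ.comp ψ) n)
  refine iSup₂_le fun n hn => iSup₂_le fun θ hθ => ?_
  rw [← Submodule.map_le_iff_le_comap, ← LinearMap.range_comp]
  refine h3 _ ?_ fun X h4 h5 => ?_
  · rintro t - _ ⟨w, rfl⟩
    obtain ⟨t', e⟩ := h2.conj_mem _ ⟨t, rfl⟩ y⁻¹
    exact ⟨M.ρW n t' w, (congrArg (ρ y) (hθ t' w)).trans (rho_conj (by rw [e]; group) _)⟩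
  · rw [← Submodule.map_comap_eq_self h4]
    refine ((cyc hF hP hn).irr M.hyp.Up (X.comap (ρ y ∘ₗ θ)) fun t _ w hw => ?_).imp (fun e => by rw [e, Submodule.map_bot])
      fun e => by rw [e, Submodule.map_top]
    obtain ⟨t', e⟩ := h2.conj_mem _ ⟨t, rfl⟩ y
    exact (congrArg (· ∈ X) ((congrArg (ρ y) (hθ t w)).trans (rho_conj e.symm _))).mpr (h5 t' trivial _ hw)

theorem outer {y : Y} (hy : y ^ p = 1) {u : T} (hu : u ∈ M.E.U) {γ : M.Gr} {j : ℕ} (H : M.Acts ψ y u 1 γ j)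
    {n : Fin M.f → ι → ℕ} (hn : n ∈ M.pats) (h0 : M.mult (ρ.comp ψ) n ≠ 0) (h : M.act γ j n = n) :
    (∀ F ∈ M.Wc n, (Xi (M.aut γ j) (M.ΦT u) ^ p) F = F) ∧ ∀ B : Subgroup T,
      finrank k ↥(M.Vc (ρ.comp ψ) n ⊓ fx ρ (B.map ψ) ⊓ LinearMap.ker (ρ y - 1)) ≤
        M.mult (ρ.comp ψ) n * finrank k (M.fxX n B u γ j) := by
  have := hP.fd n hn
  obtain ⟨β, h1, h2⟩ := H.exists_β
  have h3 : (M.ΦT u * fun a : Fin M.f => M.FrP a 1) = M.ΦT u := funext fun a => by rw [Pi.mul_apply, map_one, mul_one]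
  rw [h3] at h2
  obtain ⟨Ξ, h4, h5⟩ : ∃ Ξ : Module.End k (M.Wc n), (∀ F, (Ξ F).1 = Xi (M.aut γ j) (M.ΦT u) F.1) ∧
      ∀ t F, Ξ (M.ρW n (β t) F) = M.ρW n t (Ξ F) := ⟨M.XiE γ j _ h, fun _ => rfl, fun t => M.XiE_ρ γ j _ h (h2 t)⟩
  have h6 : ∀ θ ∈ Hom (M.ρW n) (ρ.comp ψ), ρ y ∘ₗ θ ∘ₗ Ξ ∈ Hom (M.ρW n) (ρ.comp ψ) := fun θ =>
    comp_mem_Hom β.surjective h5 fun t => rho_conj (h1 t)
  have h7 : ρ y ^ p = 1 := by rw [← map_pow, hy, map_one]
  have h8 : Ξ ^ p = 1 := by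
    obtain ⟨_, ⟨θ, h8, rfl⟩, h9⟩ := (Submodule.ne_bot_iff _).1 (Hv_ne hF hP hn h0)
    have h10 : ∀ m : ℕ, (ρ y ^ m) ∘ₗ θ ∘ₗ (Ξ ^ m) ∈ Hom (M.ρW n) (ρ.comp ψ) := fun m => by
      induction m with
      | zero => exact h8
      | succ m ih => rw [pow_succ', pow_succ]; exact h6 _ ih
    have h11 := h10 p
    rw [h7] at h11
    have h12 : Ξ (M.cW n) = M.cW n := Subtype.ext ((h4 _).trans (funext fun g => by
      show M.cP n (_ * _) = M.cP n g
      rw [← map_inv, M.cP_U n (inv_mem hu), ← M.cP_aut γ j n g, h]))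
    refine (cyc hF hP hn).eq_one (fun t F => ?_) ((Module.End.pow_apply _ _ _).trans (Function.iterate_fixed h12 p))
    exact (cyc hF hP hn).inj M.hyp.Up h8 (fun e => h9 (by rw [e]; rfl)) ((h11 t F).trans (h8 t _).symm)
  have h9 : ∀ (m : ℕ) F, ((Ξ ^ m) F).1 = (Xi (M.aut γ j) (M.ΦT u) ^ m) F.1 := fun m F => by
    induction m with
    | zero => rfl
    | succ m ih => rw [pow_succ', pow_succ', Module.End.mul_apply, Module.End.mul_apply, h4, ih]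
  refine ⟨fun F hF => (h9 p ⟨F, hF⟩).symm.trans (by rw [h8]; rfl), fun B => ?_⟩
  rw [← fx_comp]
  refine ((cyc hF hP hn).outer M.hyp.Up h8 h7 h6 B).trans (Nat.mul_le_mul_left _ ?_)
  have := Submodule.finiteDimensional_of_le (M.fxX_le n B u γ j)
  rw [← Submodule.finrank_map_subtype_eq]
  refine Submodule.finrank_mono ?_
  rintro _ ⟨F, h10, rfl⟩
  exact ⟨M.mem_fxW.1 h10.1, sub_eq_zero.2 ((h4 F).symm.trans (congrArg Subtype.val (sub_eq_zero.1 h10.2)))⟩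

theorem zero (h : fx ρ ψ.range = ⊥) : M.mult (ρ.comp ψ) 0 = 0 := by
  by_contra h0
  refine Hv_ne hF hP (M.mem_pats.2 fun _ _ => hp.out.pos) h0 (le_bot_iff.1 (h ▸ ?_))
  rintro _ ⟨θ, hθ, rfl⟩ _ ⟨t, rfl⟩
  refine (hθ t _).symm.trans (congrArg θ (Subtype.ext (funext fun g => ?_)))
  show M.cP 0 _ = M.cP 0 _
  simp [cP, FDat.cc]

theorem trans (H : Frb p ρ F P) (h1 : P ⊤) (h : ∀ y, ∃ s h γ j, M.Acts ψ y s h γ j) {n n' : Fin M.f → ι → ℕ}
    (hn : n ∈ M.pats) (hn' : n' ∈ M.pats) (h2 : M.mult (ρ.comp ψ) n ≠ 0) (h3 : M.mult (ρ.comp ψ) n' ≠ 0) :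
    ∃ γ j, Commute γ M.σ ∧ n' = M.act γ j n := by
  by_contra h4
  have h5 := H.top ⊤ h1 (⨆ (m) (_ : ∃ γ j, Commute γ M.σ ∧ m = M.act γ j n), M.Vc (ρ.comp ψ) m)
    (fun e => Vc_ne hF hP hn h2 (le_bot_iff.1 (e ▸ le_iSup₂_of_le n ⟨1, 0, Commute.one_left _, (M.act_one_zero n).symm⟩
      le_rfl))) (stable_iSup ?_) fun y _ => stable_iSup (F := (ρ y).toAddMonoidHom) ?_
  · refine Vc_ne hF hP hn' h3 (disjoint_top.1 (h5 ▸ (indep_Vc hF hP ⟨n', hn'⟩).mono_right (iSup₂_le ?_)))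
    rintro _ ⟨γ, j, h6, rfl⟩
    exact le_iSup₂_of_le ⟨_, M.act_mem hn γ j⟩ (fun e => h4 ⟨γ, j, h6, (congrArg Subtype.val e).symm⟩) le_rfl
  · rintro _ ⟨γ, j, h6, rfl⟩
    exact ⟨_, ⟨_, _, (Commute.refl _).mul_left h6, M.act_act h6 M.σ j (M.f - 1) n⟩, fun v hv =>
      (semi hF hP H (M.act_mem (M.act_mem hn _ _) _ _)).2 v (by rwa [act_unsh])⟩
  · rintro _ ⟨γ, j, h6, rfl⟩
    obtain ⟨s, h, γ', j', h7⟩ := h y
    exact ⟨_, ⟨_, _, h7.2.1.mul_left h6, M.act_act h6 γ' j j' n⟩, fun v hv => (move h7 _).le ⟨v, hv, rfl⟩⟩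

theorem one (H : Frb p ρ F P) (h1 : P ψ.range) {n : Fin M.f → ι → ℕ} (hn : n ∈ M.pats)
    (h : ∀ n' ∈ M.pats, M.mult (ρ.comp ψ) n' ≠ 0 → n' = n) : M.mult (ρ.comp ψ) n ≤ 1 := by
  have := hP.fd n hn
  by_contra h0
  have h2 : M.mult (ρ.comp ψ) n ≠ 0 := by omega
  have h3 := (semi (ψ := ψ) hF hP H hn).1
  rw [h _ (M.act_mem hn 1 1) (by rwa [shift hF hP H n hn])] at h3
  obtain ⟨_, ⟨θ, h4, rfl⟩, h5, h6⟩ := H.fixed _ (Hv_ne hF hP hn h2) h3
  have h7 := H.top _ h1 (LinearMap.range θ) (fun e => h5 ((Submodule.mem_bot k).1 (e ▸ ⟨_, rfl⟩))) (by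
    rintro _ ⟨w, rfl⟩
    obtain ⟨β, rfl⟩ := (cyc hF hP hn).exists_lc w
    rw [hom_lc h4, Finsupp.linearCombination_apply, Finsupp.sum, map_sum]
    refine Submodule.sum_mem _ fun s _ => ?_
    rw [H.smul]
    exact Submodule.smul_mem _ _ ⟨_, (h4 s _).trans ((congrArg _ h6.symm).trans (H.rho _ _).symm)⟩)
    (by rintro _ ⟨t, rfl⟩; exact inv_range h4 t trivial)
  have h8 := (cyc hF hP hn).finrank_fx (ρ := ρ.comp ψ) M.hyp.Up ⊥
  have h9 := (Submodule.finrank_le (Iso (M.ρW n) (ρ.comp ψ) ⊓ fx (ρ.comp ψ : Representation k T U) ⊥)).trans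
    (LinearMap.finrank_le_finrank_of_surjective (LinearMap.range_eq_top.1 h7))
  rw [h8, fx_bot, finrank_top] at h9
  have : Nontrivial (M.Wc n) := nontrivial_of_ne _ _ (cyc hF hP hn).ne
  exact h0 (Nat.le_of_mul_le_mul_right (h9.trans (one_mul _).ge) Module.finrank_pos)

end Std

/-- **TH2** -/
theorem boxSt : BoxSt := by
  intro p _ ι Φ k G _ _ _ _ _ _ _ _ _ D T S _ _ _ M C hF hP Y _ _ V _ _ _ K ρ hs ψ hψ
  subst hψ
  obtain ⟨F, H⟩ := exists_frb p k ρ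
  refine ⟨Std.indep_Vc hF hP, Std.span hF hP H hs.irr hs.normal, fun n hn => Std.fix hF hP hn, Std.shift hF hP H,
    fun y s h γ j H n _ => Std.move H n, fun y hy u hu γ j H n hn => Std.outer hF hP hy hu H hn, Std.zero hF hP ?_,
    fun n hn h => ?_, fun h n hn n' hn' => Std.trans hF hP H hs.irr h hn hn', fun h n hn => Std.one hF hP H h hn⟩
  · rw [← Submodule.finrank_eq_zero, fx_bc, finrank_range_subtype_baseChange, hs.fx_K, finrank_bot]
  · obtain ⟨v, h1, h2⟩ := (Submodule.ne_bot_iff _).1 (Std.Hv_ne hF hP hn h)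
    exact ⟨_, ⟨M.lw_lt hn, v, h2, Std.isW hF hP hn h1⟩, M.dig_lw hn⟩

end Cfsg.Agent.TwoF.DC
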