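import Cfsg.Agent.TwoF.DC.St.Cyc
import Cfsg.Agent.TwoF.DC.Asm.Grp

/-!
# TwoF, defining characteristic, `BoxSt` (2): the simple modules of the finite group (helper85)
-/

set_option autoImplicit false
set_option linter.unusedSectionVars false
set_option linter.unusedVariables false

namespace Cfsg.Agent.TwoF.DC

open Module Finset Cfsg.Agent.H45.Uni Cfsg.Agent.H45.UniE Cfsg.Agent.TwoF.Gen Cfsg.Agent.H564.TWP
open Cfsg.Agent.H564.TW (cc_U cc_Um)

variable {p : ℕ} [hp : Fact p.Prime] {ι Φ k G : Type} [Fintype ι] [DecidableEq ι] [Fintype Φ] [DecidableEq Φ] [Field k]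
  [Infinite k] [CharP k p] [Group G] {D : RDat p ι Φ k G} {T S : Type} [Group T] [Finite T] [Group S]
  {U : Type} [AddCommGroup U] [Module k U]

namespace Std

variable (M : Std D T S)

/-- the highest weight vector -/
def cW (n : Fin M.f → ι → ℕ) : M.Wc n := ⟨M.cP n, self_mem_Tr _⟩

theorem cP_one (n : Fin M.f → ι → ℕ) : M.cP n 1 = 1 := Finset.prod_eq_one fun a _ => D.toFDat.cc_one _

theorem cP_U (n : Fin M.f → ι → ℕ) {u : T} (hu : u ∈ M.E.U) (g : Fin M.f → G) : M.cP n (g * M.ΦT u) = M.cP n g :=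
  Finset.prod_congr rfl fun a _ => cc_U D.toFDat _ (by
    have h := M.tw_U 1 a (M.φ_U hu)
    rwa [M.tw_apply, M.gr_one, ← M.ΦT_apply] at h) _

theorem cP_τ (n : Fin M.f → ι → ℕ) (g : Fin M.f → G) : M.cP n (fun a => D.τ (g a)) = M.cP n g :=
  Finset.prod_congr rfl fun a _ => D.toFDat.cc_τ _ _

theorem τ_ΦT (s : T) : ∃ s', M.ΦT s = fun a => D.τ (M.ΦT s' a) := by
  obtain ⟨s', h⟩ := M.hyp.map.τ _ ⟨s, rfl⟩
  refine ⟨s', funext fun a => ?_⟩
  rw [ΦT_apply, ΦT_apply, h]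
  generalize (a : ℕ) = m
  induction m with
  | zero => exact (D.τ_τ _).symm
  | succ m ih =>
    rw [Function.iterate_succ_apply', Function.iterate_succ_apply', ih]
    exact D.map_τ (γ := id) (ω := fun t => t ^ p) M.Fr_x M.Fr_y _

theorem mem_fxW {n : Fin M.f → ι → ℕ} {B : Subgroup T} {F : M.Wc n} : F ∈ fx (M.ρW n) B ↔ F.1 ∈ M.fxW n B :=
  ⟨fun h => ⟨F.2, fun b hb => congrArg Subtype.val (h b hb)⟩, fun h b hb => Subtype.ext (h.2 b hb)⟩

theorem finrank_fxW (n : Fin M.f → ι → ℕ) (B : Subgroup T) : finrank k (fx (M.ρW n) B) = finrank k (M.fxW n B) := by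
  have h : (fx (M.ρW n) B).map (M.Wc n).subtype = M.fxW n B := Submodule.ext fun F =>
    ⟨by rintro ⟨F, h, rfl⟩; exact M.mem_fxW.1 h, fun h => ⟨⟨F, h.1⟩, M.mem_fxW.2 h, rfl⟩⟩
  rw [← h, Submodule.finrank_map_subtype_eq]

/-- the weight of a pattern -/
def lw (n : Fin M.f → ι → ℕ) (i : ι) : ℕ := ∑ a, n a i * p ^ (a : ℕ)

theorem lw_lt {n : Fin M.f → ι → ℕ} (hn : n ∈ M.pats) (i : ι) : M.lw n i < p ^ M.f :=
  (finFunctionFinEquiv fun a => (⟨n a i, M.mem_pats.1 hn a i⟩ : Fin p)).2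

theorem dig_lw {n : Fin M.f → ι → ℕ} (hn : n ∈ M.pats) (a : Fin M.f) : dig p (M.lw n) a = n a := funext fun i =>
  congrArg Fin.val (congrFun (finFunctionFinEquiv.symm_apply_apply fun a => (⟨n a i, M.mem_pats.1 hn a i⟩ : Fin p)) a)

theorem lw_dig {l : ι → ℕ} (hl : ∀ i, l i < p ^ M.f) : M.lw (fun a => dig p l a) = l := funext fun i =>
  congrArg Fin.val (finFunctionFinEquiv.apply_symm_apply (⟨l i, hl i⟩ : Fin (p ^ M.f)))

theorem Δ_iter (a : ℕ) (i : ι) (g : G) : D.Δ i (M.Fr^[a] g) = D.Δ i g ^ p ^ a := by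
  induction a with
  | zero => rw [pow_zero, pow_one]; rfl
  | succ a ih => rw [Function.iterate_succ_apply', M.Δ_Fr, ih, ← pow_mul, ← pow_succ]

theorem cP_ΦT (n : Fin M.f → ι → ℕ) (s : T) : M.cP n (M.ΦT s) = D.toFDat.cc (M.lw n) (M.φ s) := by
  simp only [cP, FDat.cc, ΦT_apply, Δ_iter, lw]
  rw [Finset.prod_comm]
  refine Finset.prod_congr rfl fun i _ => ?_
  rw [← Finset.prod_pow_eq_pow_sum]
  exact Finset.prod_congr rfl fun a _ => by rw [← pow_mul, mul_comm]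

theorem lc_apply (n : Fin M.f → ι → ℕ) (β : T →₀ k) (g : Fin M.f → G) :
    (lc (M.ρW n) (M.cW n) β).1 g = ∑ s ∈ β.support, β s * M.cP n (g * M.ΦT s) := by
  rw [Finsupp.linearCombination_apply, Finsupp.sum, Submodule.coe_sum, Finset.sum_apply]
  rfl

/-! ### twisting -/

theorem aut_bij (γ : M.Gr) (j : ℕ) : Function.Bijective (M.aut γ j) := by
  refine ⟨fun g g' e => funext fun a => ?_, fun g => ⟨fun a => (M.gr (γ * (M.σ ^ (((M.rot j).symm a + j) / M.f))⁻¹)).symm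
    (g ((M.rot j).symm a)), funext fun a => ?_⟩⟩
  · obtain ⟨a, rfl⟩ := (M.rot j).surjective a
    exact (M.gr _).injective (congrFun e a)
  · rw [aut_apply, ← M.rot_apply, Equiv.symm_apply_apply, MulEquiv.apply_symm_apply]

theorem cP_aut (γ : M.Gr) (j : ℕ) (n : Fin M.f → ι → ℕ) (g : Fin M.f → G) :
    M.cP (M.act γ j n) (M.aut γ j g) = M.cP n g := by
  rw [cP, cP, ← Equiv.prod_comp (M.rot j) fun a => D.toFDat.cc (n a) (g a)]
  refine Finset.prod_congr rfl fun a _ => ?_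
  rw [act_apply', aut_apply, ← cc_gr, Function.comp_apply, ← M.gr_mul, mul_assoc, inv_mul_cancel_left, mul_inv_cancel,
    M.gr_one, rot_apply]

theorem Xi_RR (γ : M.Gr) (j : ℕ) (n : Fin M.f → ι → ℕ) (x h : Fin M.f → G) :
    Xi (M.aut γ j) x (RR (x * M.aut γ j h) (M.cP (M.act γ j n))) = RR h (M.cP n) := funext fun g => by
  rw [Xi_apply, RR_apply, RR_apply, mul_assoc, inv_mul_cancel_left, ← map_mul, cP_aut]

theorem map_Xi (γ : M.Gr) (j : ℕ) (n : Fin M.f → ι → ℕ) (x : Fin M.f → G) :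
    (M.Wc (M.act γ j n)).map (Xi (M.aut γ j) x) = M.Wc n := by
  rw [Wc, Wc, Tr, Tr, Submodule.map_span]
  congr 1
  ext F
  constructor
  · rintro ⟨_, ⟨h, rfl⟩, rfl⟩
    obtain ⟨h', e⟩ := (M.aut_bij γ j).2 (x⁻¹ * h)
    exact ⟨h', (M.Xi_RR γ j n x h').symm.trans (by rw [e, mul_inv_cancel_left])⟩
  · rintro ⟨h, rfl⟩
    exact ⟨_, ⟨_, rfl⟩, M.Xi_RR γ j n x h⟩

theorem Xi_inj (γ : M.Gr) (j : ℕ) (x : Fin M.f → G) : Function.Injective (Xi (k := k) (M.aut γ j) x) :=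
  fun F F' e => funext fun g => by
    obtain ⟨h, e'⟩ := (M.aut_bij γ j).2 (g * x)
    have h1 := congrFun e h
    rwa [Xi_apply, Xi_apply, e', mul_inv_cancel_right] at h1

/-- the twisting isomorphism -/
noncomputable def XiE (γ : M.Gr) (j : ℕ) (x : Fin M.f → G) {n m : Fin M.f → ι → ℕ} (h : M.act γ j n = m) :
    M.Wc m ≃ₗ[k] M.Wc n :=
  (Submodule.equivMapOfInjective _ (M.Xi_inj γ j x) _).trans (LinearEquiv.ofEq _ _ (h ▸ M.map_Xi γ j n x))

theorem XiE_coe (γ : M.Gr) (j : ℕ) (x : Fin M.f → G) {n m : Fin M.f → ι → ℕ} (h : M.act γ j n = m) (F : M.Wc m) :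
    (M.XiE γ j x h F).1 = Xi (M.aut γ j) x F.1 := rfl

theorem XiE_ρ (γ : M.Gr) (j : ℕ) (x : Fin M.f → G) {n m : Fin M.f → ι → ℕ} (h : M.act γ j n = m) {t t' : T}
    (e : M.ΦT t' = x * M.aut γ j (M.ΦT t) * x⁻¹) (F : M.Wc m) :
    M.XiE γ j x h (M.ρW m t' F) = M.ρW n t (M.XiE γ j x h F) := Subtype.ext (funext fun g => by
  show F.1 (M.aut γ j g * x⁻¹ * M.ΦT t') = F.1 (M.aut γ j (g * M.ΦT t) * x⁻¹)
  rw [e, map_mul]
  group)

variable {M} in
theorem Acts.exists_β {Y : Type} [Group Y] {ψ : T →* Y} {y : Y} {s : T} {h : G} {γ : M.Gr} {j : ℕ}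
    (H : M.Acts ψ y s h γ j) : ∃ β : MulAut T, (∀ t, y * ψ t * y⁻¹ = ψ (β t)) ∧ ∀ t, M.ΦT (β t) =
      (M.ΦT s * fun a : Fin M.f => M.FrP a h) * M.aut γ j (M.ΦT t) * (M.ΦT s * fun a : Fin M.f => M.FrP a h)⁻¹ := by
  obtain ⟨hh, hγ, H⟩ := H
  obtain ⟨β, hβ⟩ := M.exists_aut ((MulAut.conj h).toMonoidHom.comp (M.tw γ j))
    (fun t ht => M.tw_inj γ j ((map_eq_one_iff _ (MulAut.conj h).injective).1 ht))
    fun t => (H t).imp fun t' ht' => by rw [ht'.1, ← M.tw_apply]; rfl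
  refine ⟨MulAut.conj s * β, fun t => ?_, fun t => ?_⟩
  · obtain ⟨t', h1, h2⟩ := H t
    rw [h2, M.φ_inj (h1.trans (by rw [← M.tw_apply]; exact (hβ t).symm))]
    rfl
  · obtain ⟨t', h1⟩ := M.exists_tw hγ j t
    rw [M.aut_ΦT γ j (h1.trans (M.tw_apply _ _ _)), MulAut.mul_apply, MulAut.conj_apply, map_mul, map_mul, map_inv]
    have h2 : M.ΦT (β t) = (fun a : Fin M.f => M.FrP a h) * M.ΦT t' * (fun a : Fin M.f => M.FrP a h)⁻¹ := by
      funext a
      show M.FrP a (M.φ (β t)) = M.FrP a h * M.FrP a (M.φ t') * (M.FrP a h)⁻¹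
      rw [hβ, h1, ← map_inv, ← map_mul, ← map_mul]
      rfl
    rw [h2]
    group

theorem cP_shift (n : Fin M.f → ι → ℕ) (s : T) : M.cP (M.act 1 1 n) (M.ΦT s) ^ p = M.cP n (M.ΦT s) := by
  obtain ⟨s', h⟩ := M.φ_Fr s
  rw [← M.cP_aut 1 1 n, M.aut_ΦT 1 1 (s' := s') (by rw [h, M.gr_one]; rfl), cP_ΦT, cP_ΦT, h]
  simp only [FDat.cc, M.Δ_Fr, ← Finset.prod_pow, ← pow_mul, mul_comm]

/-! ### simplicity -/

variable {M} {C : Can D} (hF : C.Fa) (hP : M.Pow C)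

include hF hP

theorem line {n : Fin M.f → ι → ℕ} (hn : n ∈ M.pats) : fx (M.ρW n) M.E.U ≤ Submodule.span k {M.cW n} := fun F h => by
  obtain ⟨a, ha⟩ := Submodule.mem_span_singleton.1 (hP.line hF n hn (M.mem_fxW.1 h))
  exact Submodule.mem_span_singleton.2 ⟨a, Subtype.ext ha⟩

theorem res_inj {n : Fin M.f → ι → ℕ} (hn : n ∈ M.pats) {F : M.Wc n} (h : ∀ s, F.1 (M.ΦT s) = 0) : F = 0 := by
  let K : Submodule k (M.Wc n) :=
    { carrier := {F | ∀ s, F.1 (M.ΦT s) = 0}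
      add_mem' := fun {a b} ha hb s => by rw [Submodule.coe_add, Pi.add_apply, ha s, hb s, add_zero]
      zero_mem' := fun _ => rfl
      smul_mem' := fun a F h s => by rw [Submodule.coe_smul, Pi.smul_apply, h s, smul_zero] }
  have h1 : K = ⊥ := by
    by_contra h1
    obtain ⟨F, h2, h3⟩ := (Submodule.ne_bot_iff _).1 (inf_fx_ne_bot (ρ := M.ρW n) (W := K) M.hyp.Up
      (fun b _ F h s => (congrArg F.1 (map_mul M.ΦT s b).symm).trans (h _)) h1)
    obtain ⟨a, rfl⟩ := Submodule.mem_span_singleton.1 (line hF hP hn h2.2)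
    have h4 : a * M.cP n (M.ΦT 1) = 0 := h2.1 1
    rw [map_one, M.cP_one, mul_one] at h4
    exact h3 (by rw [h4, zero_smul])
  exact (Submodule.mem_bot k).1 (h1 ▸ h)

theorem lc_eq_zero {n : Fin M.f → ι → ℕ} (hn : n ∈ M.pats) {β : T →₀ k} :
    lc (M.ρW n) (M.cW n) β = 0 ↔ ∀ t, ∑ s ∈ β.support, β s * M.cP n (M.ΦT (t * s)) = 0 := by
  simp only [map_mul, ← M.lc_apply]
  exact ⟨fun h t => by rw [h]; rfl, res_inj hF hP hn⟩

theorem cyc {n : Fin M.f → ι → ℕ} (hn : n ∈ M.pats) : Cyc M.E.U (M.ρW n) (M.cW n) where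
  ne h := one_ne_zero ((M.cP_one n).symm.trans (congrFun (congrArg Subtype.val h) 1))
  fix u hu := Subtype.ext (funext fun g => M.cP_U n hu g)
  line := line hF hP hn
  gen := by
    have := hP.fd n hn
    by_contra h0
    obtain ⟨l, h1, h2⟩ := Submodule.exists_dual_map_eq_bot_of_lt_top (lt_top_iff_ne_top.2 h0) inferInstance
    let ev : (Fin M.f → G) → Dual k (M.Wc n) := fun g => LinearMap.proj g ∘ₗ (M.Wc n).subtype
    have h3 : Submodule.span k (Set.range ev) = ⊤ := Submodule.span_eq_top_of_ne_zero fun z hz => by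
      by_contra h4
      push Not at h4
      exact hz (Subtype.ext (funext fun g => h4 _ ⟨g, rfl⟩))
    obtain ⟨β, rfl⟩ := (Finsupp.mem_span_range_iff_exists_finsupp).1 (h3.ge (Submodule.mem_top (x := l)))
    have h4 : ∀ F : M.Wc n, (β.sum fun g a => a • ev g) F = ∑ g ∈ β.support, β g * F.1 g := fun F => by
      rw [Finsupp.sum, LinearMap.sum_apply]; rfl
    let F : M.Wc n := ∑ g ∈ β.support, β g • ⟨RR (fun a => D.τ (g a)) (M.cP n), mem_Tr _ _⟩
    have h5 : ∀ x : Fin M.f → G, F.1 (fun a => D.τ (x a)) = ∑ g ∈ β.support, β g * M.cP n (g * x) := fun x => by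
      rw [Submodule.coe_sum, Finset.sum_apply]
      refine Finset.sum_congr rfl fun g _ => congrArg (β g * ·) ?_
      rw [← M.cP_τ n (g * x)]
      exact congrArg (M.cP n) (funext fun a => (D.τ_mul _ _).symm)
    have h6 : F = 0 := res_inj hF hP hn fun s => by
      obtain ⟨s', e⟩ := M.τ_ΦT s
      rw [e, h5]
      refine (h4 (M.ρW n s' (M.cW n))).symm.trans ((Submodule.mem_bot k).1 (h2 ▸ ⟨_, ⟨Finsupp.single s' 1, ?_⟩, rfl⟩))
      rw [Finsupp.linearCombination_single, one_smul]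
    refine h1 (LinearMap.ext fun ⟨X, hX⟩ => ?_)
    induction hX using Submodule.span_induction with
    | mem X hX =>
      obtain ⟨x, rfl⟩ := hX
      exact (h4 _).trans ((h5 x).symm.trans (by rw [h6]; rfl))
    | zero => exact map_zero _
    | add X X' hX hX' h7 h8 => exact (map_add _ (⟨X, hX⟩ : M.Wc n) ⟨X', hX'⟩).trans (by rw [h7, h8]; exact add_zero _)
    | smul a X hX h7 => exact (map_smul _ a (⟨X, hX⟩ : M.Wc n)).trans (by rw [h7]; exact smul_zero _)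

variable {ρ : Representation k T U}

theorem isW {n : Fin M.f → ι → ℕ} (hn : n ∈ M.pats) {v : U} (hv : v ∈ Hv (M.ρW n) ρ (M.cW n)) :
    M.E.IsW M.χ ρ (TSys.wt M.orb M.e (M.lw n)) v ∧ ∀ j, M.E.Tj ρ j v =
      ((if TSys.wt M.orb M.e (M.lw n) j = 0 then 1 else 0) + M.E.sg M.χ (TSys.wt M.orb M.e (M.lw n)) j) • v := by
  obtain ⟨θ, hθ, rfl⟩ := hv
  have h1 := M.hyp.map.isW (k := k) (M.lw n)
  refine ⟨⟨fun u hu => (hθ u _).symm.trans (congrArg θ ((cyc hF hP hn).fix u hu)), fun j b => ?_⟩, fun j => ?_⟩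
  · refine (hθ _ _).symm.trans ((congrArg θ ?_).trans (map_smul θ _ _))
    refine sub_eq_zero.1 (res_inj hF hP hn fun s => sub_eq_zero.2 ?_)
    show M.cP n (M.ΦT s * M.ΦT _) = _ * M.cP n (M.ΦT s)
    rw [← map_mul, M.cP_ΦT, M.cP_ΦT]
    exact congrFun (h1.tor j b) s
  · have h2 : M.E.Tj ρ j (θ (M.cW n)) = θ (M.E.Tj (M.ρW n) j (M.cW n)) := by
      rw [TSys.Tj_def, TSys.Tj_def, map_sum]
      exact Finset.sum_congr rfl fun u _ => (hθ _ _).symm
    refine h2.trans ((congrArg θ ?_).trans (map_smul θ _ _))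
    refine sub_eq_zero.1 (res_inj hF hP hn fun s => sub_eq_zero.2 ?_)
    have h3 := congrFun (M.hyp.Tj_c (M.lw_lt hn) j) s
    rw [TSys.Tj_def, Finset.sum_apply] at h3
    rw [TSys.Tj_def, Submodule.coe_sum, Finset.sum_apply]
    refine Eq.trans (Finset.sum_congr rfl fun u _ => ?_) (h3.trans ?_)
    · show M.cP n (M.ΦT s * M.ΦT _) = _
      rw [← map_mul, M.cP_ΦT]
      rfl
    · show _ = _ * M.cP n (M.ΦT s)
      rw [M.cP_ΦT]
      rfl

omit hF hP in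
theorem wt_eq {l l' : ι → ℕ} (hl : ∀ i, l i < p ^ M.f) (hl' : ∀ i, l' i < p ^ M.f)
    (h1 : ∀ j b, (M.χ j b : k) ^ TSys.wt M.orb M.e l j = (M.χ j b : k) ^ TSys.wt M.orb M.e l' j)
    (h2 : ∀ j, (if TSys.wt M.orb M.e l j = 0 then 1 else 0) + M.E.sg M.χ (TSys.wt M.orb M.e l) j =
      (if TSys.wt M.orb M.e l' j = 0 then 1 else 0) + M.E.sg M.χ (TSys.wt M.orb M.e l') j) : l = l' := by
  refine M.wt_inj l l' hl hl' (funext fun j => ?_)
  have := M.hyp.fin j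
  obtain ⟨g, hg⟩ := (M.hyp.cyc j).exists_generator
  have h3 : orderOf (M.χ j g) = Nat.card (M.C j) := by
    rw [orderOf_injective _ (M.hyp.χ_inj j), orderOf_eq_card_of_forall_mem_zpowers hg]
  have h4 : TSys.wt M.orb M.e l j ≡ TSys.wt M.orb M.e l' j [MOD Nat.card (M.C j)] := by
    rw [← h3, ← pow_eq_pow_iff_modEq]
    exact Units.ext (by rw [Units.val_pow_eq_pow_val, Units.val_pow_eq_pow_val, h1])
  have h5 : M.E.sg M.χ (TSys.wt M.orb M.e l) j = M.E.sg M.χ (TSys.wt M.orb M.e l') j :=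
    Finset.sum_congr rfl fun u _ => h1 j _
  have h6 := h2 j
  rw [h5, add_left_inj] at h6
  have h7 := M.wt_le l hl j
  have h8 := M.wt_le l' hl' j
  generalize TSys.wt M.orb M.e l j = a at h4 h6 h7
  generalize TSys.wt M.orb M.e l' j = a' at h4 h6 h8
  by_cases h9 : a = 0
  · by_contra h10
    rw [if_pos h9, if_neg (by omega)] at h6
    exact one_ne_zero h6
  · by_cases h10 : a' = 0
    · rw [if_neg h9, if_pos h10] at h6
      exact absurd h6 zero_ne_one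
    · obtain ⟨a, rfl⟩ := Nat.exists_eq_succ_of_ne_zero h9
      obtain ⟨a', rfl⟩ := Nat.exists_eq_succ_of_ne_zero h10
      rw [(Nat.ModEq.add_right_cancel' 1 h4).eq_of_lt_of_lt h7 h8]

theorem indep_Hv : iSupIndep fun n : M.pats => Hv (M.ρW n) ρ (M.cW n) := by
  let op : (Σ j, M.C j) ⊕ M.J → Module.End k U :=
    Sum.elim (fun x => ρ (M.E.hh x.1 x.2)) fun j => ∑ u ∈ M.E.XF j, ρ (u * M.E.n j)
  let ev : M.pats → (Σ j, M.C j) ⊕ M.J → k := fun n => Sum.elim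
    (fun x => (M.χ x.1 x.2 : k) ^ TSys.wt M.orb M.e (M.lw n) x.1)
    fun j => (if TSys.wt M.orb M.e (M.lw n) j = 0 then 1 else 0) + M.E.sg M.χ (TSys.wt M.orb M.e (M.lw n)) j
  have h1 : Function.Injective ev := fun n n' e => Subtype.ext (funext fun a => by
    rw [← M.dig_lw n.2, ← M.dig_lw n'.2, wt_eq (M.lw_lt n.2) (M.lw_lt n'.2) (fun j b => congrFun e (Sum.inl ⟨j, b⟩))
      fun j => congrFun e (Sum.inr j)])
  refine ((iSupIndep.iInf (fun i => (op i).eigenspace) fun i => (op i).eigenspaces_iSupIndep).comp h1).mono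
    fun n v hv => (Submodule.mem_iInf _).2 fun i => Module.End.mem_eigenspace_iff.2 ?_
  obtain ⟨h2, h3⟩ := isW hF hP n.2 hv
  rcases i with i | j
  · exact h2.tor _ _
  · exact (LinearMap.sum_apply _ _ _).trans (h3 j)

variable [FiniteDimensional k U]

theorem indep_Vc : iSupIndep fun n : M.pats => M.Vc ρ n :=
  indep_of_fx (ρ := ρ) M.hyp.Up (fun n => (inv_Iso (σ := M.ρW n)).mono le_top)
    ((indep_Hv hF hP).mono fun n => (cyc hF hP n.2).Iso_fx M.hyp.Up)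

/-- every simple module is a tensor product -/
theorem exists_pat {X : Submodule k U} (hX : Inv ρ ⊤ X) (h0 : X ≠ ⊥) (hs : ∀ X' ≤ X, Inv ρ ⊤ X' → X' = ⊥ ∨ X' = X) :
    ∃ n ∈ M.pats, X ≤ M.Vc ρ n := by
  let ρX : Representation k T X := ρ.subrepresentation X fun g _ hv => hX g trivial _ hv
  obtain ⟨l, v, hl, h1, h2, h3⟩ := M.hyp.exists_weight (M.hwt X) ρX inferInstance (Submodule.nontrivial_iff_ne_bot.2 h0)
  have hn : (fun a : Fin M.f => dig p l a) ∈ M.pats := M.mem_pats.2 fun a i => Nat.mod_lt _ hp.out.pos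
  refine ⟨_, hn, (cyc hF hP hn).le_Iso hX hs v.2 (fun e => h1 (Subtype.ext e)) fun β hβ => ?_⟩
  refine (lc_eq_zero hF hP hn).2 fun t => ?_
  simp only [M.cP_ΦT, M.lw_dig hl]
  refine ann (p := p) ρX h1 (fun g => D.toFDat.cc l (M.φ g)) M.hyp.Um (fun u hu => ?_) (M.hyp.gen ρX hl h2 h3) β.support β id
    (Subtype.ext ?_) t
  · have h7 := cc_Um D.toFDat l (M.hyp.map.Um u hu) 1
    rwa [mul_one, D.toFDat.cc_one] at h7
  · rw [Submodule.coe_sum]
    exact hβ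

end Std

end Cfsg.Agent.TwoF.DC
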