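import Cfsg.Agent.TwoF.Gen.ACD

/-!
# TwoF, defining characteristic, `BoxSt` (1): modules generated by the fixed line of a `p`-subgroup (helper85)
-/

set_option autoImplicit false
set_option linter.unusedSectionVars false
set_option linter.unusedVariables false

namespace Cfsg.Agent.TwoF.DC

open Module Finset Cfsg.Agent.TwoF.Gen

/-- dimension bound for intertwiners of a unipotent operator -/
theorem finrank_le_of_unip {k H W : Type*} [Field k] [AddCommGroup H] [Module k H] [AddCommGroup W] [Module k W]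
    [FiniteDimensional k H] [FiniteDimensional k W] {τ : Module.End k H} {N : ℕ} (hτ : (τ - 1) ^ N = 0)
    (X : Submodule k W) (ξ : Module.End k W) (Z : Submodule k (H →ₗ[k] W))
    (hZ : ∀ x ∈ Z, ∀ h, x h ∈ X ∧ x (τ h) = ξ (x h)) :
    finrank k Z ≤ finrank k H * finrank k ↥(X ⊓ LinearMap.ker (ξ - 1)) := by
  have key : ∀ (n : ℕ) (S : Submodule k H), finrank k H ≤ finrank k S + n → ∀ Z : Submodule k (H →ₗ[k] W),
      (∀ x ∈ Z, ∀ h, x h ∈ X ∧ x (τ h) = ξ (x h)) → (∀ x ∈ Z, ∀ h ∈ S, x h = 0) →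
      finrank k Z ≤ n * finrank k ↥(X ⊓ LinearMap.ker (ξ - 1)) := by
    intro n
    induction n with
    | zero =>
      intro S hS Z _ h
      have h1 : S = ⊤ := Submodule.eq_top_of_finrank_eq (le_antisymm (Submodule.finrank_le S) hS)
      rw [(Submodule.eq_bot_iff Z).2 fun x hx => LinearMap.ext fun v => h x hx v (h1 ▸ trivial), finrank_bot]
      exact Nat.zero_le _
    | succ n ih =>
      intro S hS Z hZ h
      by_cases h1 : S = ⊤
      · rw [(Submodule.eq_bot_iff Z).2 fun x hx => LinearMap.ext fun v => h x hx v (h1 ▸ trivial), finrank_bot]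
        exact Nat.zero_le _
      obtain ⟨v, hv, h2⟩ : ∃ v, v ∉ S ∧ (τ - 1) v ∈ S := by
        by_contra h2
        push Not at h2
        obtain ⟨v, -, hv⟩ := SetLike.exists_of_lt (lt_top_iff_ne_top.2 h1)
        have h3 : ∀ m : ℕ, ((τ - 1) ^ m) v ∉ S := fun m => by
          induction m with
          | zero => exact hv
          | succ m ih => rw [pow_succ']; exact h2 _ ih
        exact h3 N (by rw [hτ]; exact zero_mem _)
      let e : (H →ₗ[k] W) →ₗ[k] W := LinearMap.applyₗ v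
      have h3 := LinearMap.finrank_range_add_finrank_ker (e.domRestrict Z)
      have h4 : finrank k (LinearMap.range (e.domRestrict Z)) ≤ finrank k ↥(X ⊓ LinearMap.ker (ξ - 1)) := by
        refine Submodule.finrank_mono ?_
        rintro _ ⟨x, rfl⟩
        refine ⟨(hZ x x.2 v).1, ?_⟩
        show ξ (x.1 v) - x.1 v = 0
        rw [← (hZ x x.2 v).2, ← map_sub]
        exact h x x.2 _ h2
      have h5 := ih (S ⊔ Submodule.span k {v}) (by
        have := Submodule.finrank_lt_finrank_of_lt (s := S) (t := S ⊔ Submodule.span k {v})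
          (left_lt_sup.2 fun e => hv (e (Submodule.mem_span_singleton_self v)))
        omega) ((LinearMap.ker (e.domRestrict Z)).map Z.subtype) (by rintro _ ⟨x, -, rfl⟩; exact hZ x x.2) (by
        rintro _ ⟨x, hx, rfl⟩
        exact sup_le (a := S) (c := LinearMap.ker x.1) (h x x.2) ((Submodule.span_singleton_le_iff_mem _ _).2 hx))
      rw [Submodule.finrank_map_subtype_eq] at h5
      rw [Nat.succ_mul]
      omega
  exact key _ ⊥ (Nat.le_add_left _ _) Z hZ fun x _ h hh => by rw [(Submodule.mem_bot k).1 hh, map_zero]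

theorem unip_of_pow {k H : Type*} [Field k] [AddCommGroup H] [Module k H] {p : ℕ} [Fact p.Prime] [CharP k p]
    {τ : Module.End k H} (h : τ ^ p = 1) : (τ - 1) ^ p = 0 := by
  rcases subsingleton_or_nontrivial H with h4 | h4
  · exact Subsingleton.elim _ _
  have : CharP (Module.End k H) p := charP_of_injective_algebraMap (algebraMap k _).injective p
  rw [sub_pow_char_of_commute p (Commute.one_right τ), one_pow, h, sub_self]

theorem finrank_le_of_basis {k H W I : Type*} [Field k] [AddCommGroup H] [Module k H] [AddCommGroup W] [Module k W]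
    [Fintype I] [FiniteDimensional k W] {p : ℕ} [Fact p.Prime] [CharP k p] (b : Basis I k H) {τ : Module.End k H}
    (hτ : τ ^ p = 1) (X : Submodule k W) (ξ : Module.End k W) (Z : Submodule k (I → W))
    (hZ : ∀ x ∈ Z, ∀ i, x i ∈ X ∧ ξ (x i) = ∑ j, b.repr (τ (b j)) i • x j) :
    finrank k Z ≤ finrank k H * finrank k ↥(X ⊓ LinearMap.ker (ξ - 1)) := by
  classical
  have := b.finiteDimensional_of_finite
  let τ' : Module.End k (Dual k H) := τ.dualMap
  have h2 : ∀ (m : ℕ) (l : Dual k H) θ, (τ' ^ m) l θ = l ((τ ^ m) θ) := fun m l => by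
    induction m with
    | zero => exact fun _ => rfl
    | succ m ih => intro θ; rw [pow_succ', pow_succ]; exact ih _
  have h3 : τ' ^ p = 1 := LinearMap.ext fun l => LinearMap.ext fun θ => (h2 p l θ).trans (by rw [hτ]; rfl)
  let e : (I → W) →ₗ[k] Dual k H →ₗ[k] W := ∑ i, (LinearMap.smulRightₗ (LinearMap.applyₗ (b i))) ∘ₗ LinearMap.proj i
  have he : ∀ x l, e x l = ∑ i, l (b i) • x i := fun x l => by
    simp only [e, LinearMap.sum_apply]; rfl
  have h4 : Function.Injective e := (injective_iff_map_eq_zero _).2 fun x hx => funext fun i => by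
    have h5 := he x (b.coord i)
    rw [hx] at h5
    simpa [Finsupp.single_apply] using h5.symm
  rw [(Submodule.equivMapOfInjective e h4 Z).finrank_eq, ← Subspace.dual_finrank_eq (V := H)]
  refine finrank_le_of_unip (unip_of_pow h3) X ξ _ ?_
  rintro _ ⟨x, hx, rfl⟩ l
  refine ⟨he x l ▸ Submodule.sum_mem _ fun i _ => Submodule.smul_mem _ _ (hZ x hx i).1, ?_⟩
  rw [he, he, map_sum]
  simp only [map_smul, fun i => (hZ x hx i).2, Finset.smul_sum, smul_smul]
  rw [Finset.sum_comm]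
  refine Finset.sum_congr rfl fun j _ => ?_
  rw [← Finset.sum_smul]
  show l (τ (b j)) • x j = _
  conv_lhs => rw [← b.sum_repr (τ (b j)), map_sum]
  simp only [map_smul, smul_eq_mul, mul_comm]

variable {k T : Type*} [Field k] [Group T] {W W' U : Type*} [AddCommGroup W] [Module k W] [AddCommGroup W']
  [Module k W'] [AddCommGroup U] [Module k U]

/-- the diagonal action on functions -/
def piRep (ρ : Representation k T U) (I : Type*) : Representation k T (I → U) where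
  toFun t := (ρ t).compLeft I
  map_one' := by ext x i : 2; exact rho_one ρ _
  map_mul' a b := by ext x i : 2; exact rho_mul ρ a b _

/-- the homomorphisms -/
def Hom (σ : Representation k T W) (ρ : Representation k T U) : Submodule k (W →ₗ[k] U) where
  carrier := {θ | ∀ s F, θ (σ s F) = ρ s (θ F)}
  add_mem' := fun {a b} ha hb s F => by
    rw [LinearMap.add_apply, LinearMap.add_apply, map_add, ha s F, hb s F]
  zero_mem' := fun s F => by rw [LinearMap.zero_apply, LinearMap.zero_apply, map_zero]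
  smul_mem' := fun c a ha s F => by rw [LinearMap.smul_apply, LinearMap.smul_apply, map_smul, ha s F]

/-- the homogeneous component -/
def Iso (σ : Representation k T W) (ρ : Representation k T U) : Submodule k U := ⨆ θ ∈ Hom σ ρ, LinearMap.range θ

/-- the images of `c` -/
def Hv (σ : Representation k T W) (ρ : Representation k T U) (c : W) : Submodule k U :=
  (Hom σ ρ).map (LinearMap.applyₗ c)

/-- linear combinations of translates -/
noncomputable abbrev lc (ρ : Representation k T U) (v : U) : (T →₀ k) →ₗ[k] U :=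
  Finsupp.linearCombination k fun s => ρ s v

variable {σ : Representation k T W} {σ' : Representation k T W'} {ρ : Representation k T U}

theorem range_le_Iso {θ : W →ₗ[k] U} (h : θ ∈ Hom σ ρ) : LinearMap.range θ ≤ Iso σ ρ :=
  le_iSup₂_of_le (f := fun θ (_ : θ ∈ Hom σ ρ) => LinearMap.range θ) θ h le_rfl

theorem inv_range {θ : W →ₗ[k] U} (h : θ ∈ Hom σ ρ) : Inv ρ ⊤ (LinearMap.range θ) := by
  rintro s - _ ⟨F, rfl⟩
  exact ⟨_, h s F⟩

theorem inv_Iso : Inv ρ ⊤ (Iso σ ρ) := inv_iSup fun θ => inv_iSup fun h => inv_range h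

theorem Hv_le (c : W) : Hv σ ρ c ≤ Iso σ ρ := by
  rintro _ ⟨θ, h, rfl⟩
  exact range_le_Iso h ⟨c, rfl⟩

theorem rho_lc (t : T) (v : U) (β : T →₀ k) : ρ t (lc ρ v β) = lc ρ v (β.mapDomain fun s => t * s) := by
  rw [Finsupp.apply_linearCombination, Finsupp.linearCombination_mapDomain]
  exact congrArg (fun f => Finsupp.linearCombination k f β) (funext fun s => (rho_mul ρ t s v).symm)

theorem lc_one (v : U) : lc ρ v (Finsupp.single 1 1) = v := by
  rw [Finsupp.linearCombination_single, one_smul, rho_one]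

theorem hom_lc {θ : W →ₗ[k] U} (h : θ ∈ Hom σ ρ) (c : W) (β : T →₀ k) : θ (lc σ c β) = lc ρ (θ c) β := by
  rw [Finsupp.apply_linearCombination]
  exact congrArg (fun f => Finsupp.linearCombination k f β) (funext fun s => h s c)

theorem comp_mem_Hom {Ξ : W' →ₗ[k] W} {β : T → T} (hβ : Function.Surjective β)
    (hΞ : ∀ t F, Ξ (σ' (β t) F) = σ t (Ξ F)) {y : Module.End k U} (hy : ∀ t v, y (ρ t v) = ρ (β t) (y v))
    {θ : W →ₗ[k] U} (h : θ ∈ Hom σ ρ) : y ∘ₗ θ ∘ₗ Ξ ∈ Hom σ' ρ := fun s F => by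
  obtain ⟨t, rfl⟩ := hβ s
  show y (θ (Ξ _)) = ρ _ (y (θ (Ξ F)))
  rw [hΞ, h, hy]

theorem map_Iso_le {Ξ : W' →ₗ[k] W} (hs : Function.Surjective Ξ) {β : T → T} (hβ : Function.Surjective β)
    (hΞ : ∀ t F, Ξ (σ' (β t) F) = σ t (Ξ F)) {y : Module.End k U} (hy : ∀ t v, y (ρ t v) = ρ (β t) (y v)) :
    (Iso σ ρ).map y ≤ Iso σ' ρ := by
  rw [Submodule.map_le_iff_le_comap]
  refine iSup₂_le fun θ h => ?_
  rintro _ ⟨F, rfl⟩
  obtain ⟨F, rfl⟩ := hs F
  exact range_le_Iso (comp_mem_Hom hβ hΞ hy h) ⟨F, rfl⟩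

/-- `c` spans the fixed vectors of `P` and generates the module -/
structure Cyc (P : Subgroup T) (σ : Representation k T W) (c : W) : Prop where
  ne : c ≠ 0
  fix : c ∈ fx σ P
  line : fx σ P ≤ Submodule.span k {c}
  gen : LinearMap.range (lc σ c) = ⊤

namespace Cyc

variable {P : Subgroup T} {c : W} (h : Cyc P σ c)

include h

theorem exists_lc (F : W) : ∃ β, lc σ c β = F := h.gen.ge (Submodule.mem_top (x := F))

theorem eq_zero {θ : W →ₗ[k] U} (hθ : θ ∈ Hom σ ρ) (h0 : θ c = 0) : θ = 0 := LinearMap.ext fun F => by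
  obtain ⟨β, rfl⟩ := h.exists_lc F
  rw [hom_lc hθ, h0]
  simp [Finsupp.linearCombination_apply, Finsupp.sum]

theorem exists_hom {v : U} (hv : ∀ β, lc σ c β = 0 → lc ρ v β = 0) : ∃ θ ∈ Hom σ ρ, θ c = v := by
  obtain ⟨g, hg⟩ := (lc σ c).exists_rightInverse_of_surjective h.gen
  have h1 : ∀ β, lc ρ v (g (lc σ c β)) = lc ρ v β := fun β => by
    rw [← sub_eq_zero, ← map_sub]
    refine hv _ ?_
    rw [map_sub, sub_eq_zero]
    exact DFunLike.congr_fun hg _
  refine ⟨lc ρ v ∘ₗ g, fun s F => ?_, ?_⟩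
  · obtain ⟨β, rfl⟩ := h.exists_lc F
    rw [rho_lc, LinearMap.comp_apply, LinearMap.comp_apply, h1, h1, rho_lc]
  · conv_lhs => rw [← lc_one (ρ := σ) c, LinearMap.comp_apply, h1, lc_one]

theorem finrank_Hv : finrank k (Hv σ ρ c) = finrank k (Hom σ ρ) := by
  rw [Hv, ← LinearMap.range_domRestrict]
  exact LinearMap.finrank_range_of_inj ((injective_iff_map_eq_zero _).2 fun θ h0 => Subtype.ext (h.eq_zero θ.2 h0))

theorem fd_Hom [FiniteDimensional k U] : FiniteDimensional k (Hom σ ρ) :=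
  FiniteDimensional.of_injective ((LinearMap.applyₗ c).domRestrict (Hom σ ρ))
    ((injective_iff_map_eq_zero _).2 fun θ h0 => Subtype.ext (h.eq_zero θ.2 h0))

/-- a semilinear map -/
theorem semi {c' : W'} (h' : Cyc P σ' c') {ω : k → k} (hω : Function.Surjective ω) (h0 : ω 0 = 0) {F : U →+ U}
    (hF : ∀ a v, F (a • v) = ω a • F v) (hρ : ∀ t v, F (ρ t v) = ρ t (F v))
    (hc : ∀ β : T →₀ k, lc σ' c' (β.mapRange ω h0) = 0 → lc σ c β = 0) :
    (∀ v ∈ Hv σ ρ c, F v ∈ Hv σ' ρ c') ∧ ∀ v ∈ Iso σ ρ, F v ∈ Iso σ' ρ := by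
  have h1 : ∀ v β, F (lc ρ v β) = lc ρ (F v) (β.mapRange ω h0) := fun v β => by
    rw [Finsupp.linearCombination_apply, Finsupp.linearCombination_apply,
      Finsupp.sum_mapRange_index (h := fun i a => a • ρ i (F v)) fun _ => zero_smul _ _, Finsupp.sum, Finsupp.sum,
      map_sum]
    exact Finset.sum_congr rfl fun s _ => by rw [hF, hρ]
  have h2 : ∀ θ ∈ Hom σ ρ, ∃ θ' ∈ Hom σ' ρ, θ' c' = F (θ c) := fun θ hθ => h'.exists_hom fun β hβ => by
    obtain ⟨β, rfl⟩ := Finsupp.mapRange_surjective ω h0 hω β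
    rw [← h1, ← hom_lc hθ, hc β hβ, map_zero, map_zero]
  refine ⟨by rintro _ ⟨θ, hθ, rfl⟩; exact h2 θ hθ, fun v hv => ?_⟩
  refine Submodule.iSup_induction (motive := fun v => F v ∈ Iso σ' ρ) _ hv (fun θ v hv => ?_)
    (by rw [map_zero]; exact zero_mem _) fun x y hx hy => by rw [map_add]; exact add_mem hx hy
  by_cases hθ : θ ∈ Hom σ ρ
  · rw [iSup_pos hθ] at hv
    obtain ⟨G, rfl⟩ := hv
    obtain ⟨β, rfl⟩ := h.exists_lc G
    obtain ⟨θ', h3, h4⟩ := h2 θ hθ
    rw [hom_lc hθ, h1, ← h4, ← hom_lc h3]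
    exact range_le_Iso h3 ⟨_, rfl⟩
  · rw [iSup_neg hθ, Submodule.mem_bot] at hv
    rw [hv, map_zero]
    exact zero_mem _

variable {p : ℕ} [Fact p.Prime] [CharP k p] [Finite P] (hP : IsPGroup p P)

include hP

theorem irr : Irr σ ⊤ := fun X hX => or_iff_not_imp_left.2 fun h0 => by
  obtain ⟨v, hv, h1⟩ := (Submodule.ne_bot_iff _).1 (inf_fx_ne_bot hP (hX.mono le_top) h0)
  obtain ⟨a, rfl⟩ := Submodule.mem_span_singleton.1 (h.line hv.2)
  have h2 : c ∈ X := (X.smul_mem_iff (left_ne_zero_of_smul h1)).1 hv.1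
  rw [eq_top_iff, ← h.gen, Finsupp.range_linearCombination, Submodule.span_le]
  rintro _ ⟨s, rfl⟩
  exact hX s trivial c h2

theorem inj {θ : W →ₗ[k] U} (hθ : θ ∈ Hom σ ρ) (h0 : θ ≠ 0) : Function.Injective θ :=
  LinearMap.ker_eq_bot.1 ((h.irr hP _ fun s _ F hF => by
    rw [LinearMap.mem_ker, hθ, LinearMap.mem_ker.1 hF, map_zero]).resolve_right fun e => h0 (LinearMap.ker_eq_top.1 e))

omit hP in
/-- a simple submodule with the relations of `c` -/
theorem le_Iso {X : Submodule k U} (hX : Inv ρ ⊤ X) (hs : ∀ X' ≤ X, Inv ρ ⊤ X' → X' = ⊥ ∨ X' = X) {v : U} (hv : v ∈ X)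
    (h0 : v ≠ 0) (hr : ∀ β, lc ρ v β = 0 → lc σ c β = 0) : X ≤ Iso σ ρ := by
  have h1 : LinearMap.range (lc ρ v) ≤ X := by
    rw [Finsupp.range_linearCombination, Submodule.span_le]
    rintro _ ⟨s, rfl⟩
    exact hX s trivial v hv
  have h2 := hs ((LinearMap.ker (lc σ c)).map (lc ρ v)) (LinearMap.map_le_range.trans h1) (by
    rintro s - _ ⟨β, hβ, rfl⟩
    exact ⟨_, by rw [SetLike.mem_coe, LinearMap.mem_ker, ← rho_lc, LinearMap.mem_ker.1 hβ, map_zero], (rho_lc _ _ _).symm⟩)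
  obtain ⟨θ, hθ, h3⟩ := h.exists_hom (ρ := ρ) (v := v) fun β hβ => by
    rcases h2 with h2 | h2
    · exact (Submodule.mem_bot k).1 (h2 ▸ ⟨β, hβ, rfl⟩)
    · obtain ⟨β', h3, h4⟩ := h2.ge hv
      have h5 := hr (Finsupp.single 1 1 - β') (by rw [map_sub, lc_one, h4, sub_self])
      rw [map_sub, lc_one, LinearMap.mem_ker.1 h3, sub_zero] at h5
      exact absurd h5 h.ne
  have h4 : LinearMap.range θ ≤ X := by
    rintro _ ⟨F, rfl⟩
    obtain ⟨β, rfl⟩ := h.exists_lc F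
    rw [hom_lc hθ, h3]
    exact h1 ⟨β, rfl⟩
  rcases hs _ h4 (inv_range hθ) with h5 | h5
  · exact absurd ((Submodule.mem_bot k).1 (h5 ▸ ⟨c, h3⟩)) h0
  · exact h5 ▸ range_le_Iso hθ

variable [FiniteDimensional k U]

omit hP in
/-- a basis of the homomorphisms -/
noncomputable def bs (ρ : Representation k T U) : Basis (Fin (finrank k (Hom σ ρ))) k (Hom σ ρ) :=
  haveI := h.fd_Hom (ρ := ρ)
  Module.finBasis k _

omit hP in
/-- the isomorphism with the homogeneous component -/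
noncomputable def Ψ (ρ : Representation k T U) : (Fin (finrank k (Hom σ ρ)) → W) →ₗ[k] U :=
  ∑ i, (h.bs ρ i).1 ∘ₗ LinearMap.proj i

omit hP in
theorem Ψ_apply (x : Fin (finrank k (Hom σ ρ)) → W) : h.Ψ ρ x = ∑ i, (h.bs ρ i).1 (x i) := by
  rw [Ψ, LinearMap.sum_apply]; rfl

omit hP in
theorem Ψ_mem : h.Ψ ρ ∈ Hom (piRep σ _) ρ := fun s x => by
  rw [Ψ_apply, Ψ_apply, map_sum]
  exact Finset.sum_congr rfl fun i _ => (h.bs ρ i).2 s _

omit hP in
theorem Ψ_repr (θ : Hom σ ρ) (F : W) : h.Ψ ρ (fun i => (h.bs ρ).repr θ i • F) = θ.1 F := by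
  conv_rhs => rw [← (h.bs ρ).sum_repr θ, Submodule.coe_sum, LinearMap.sum_apply]
  rw [Ψ_apply]
  exact Finset.sum_congr rfl fun i _ => map_smul _ _ _

omit hP in
theorem range_Ψ : LinearMap.range (h.Ψ ρ) = Iso σ ρ := by
  refine le_antisymm ?_ (iSup₂_le fun θ hθ => ?_)
  · rintro _ ⟨x, rfl⟩
    rw [Ψ_apply]
    exact Submodule.sum_mem _ fun i _ => range_le_Iso (h.bs ρ i).2 ⟨_, rfl⟩
  · rintro _ ⟨F, rfl⟩
    exact ⟨_, h.Ψ_repr ⟨θ, hθ⟩ F⟩

omit hP in
theorem Ψ_fix {x : Fin (finrank k (Hom σ ρ)) → W} (hx : x ∈ fx (piRep σ _) P) :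
    ∃ θ : Hom σ ρ, x = (fun i => (h.bs ρ).repr θ i • c) ∧ h.Ψ ρ x = θ.1 c := by
  choose a ha using fun i => Submodule.mem_span_singleton.1 (h.line (x := x i) fun b hb => congrFun (hx b hb) i)
  have h1 : x = fun i => (h.bs ρ).repr ((h.bs ρ).equivFun.symm a) i • c := funext fun i => by
    rw [← ha, ← Basis.equivFun_apply, LinearEquiv.apply_symm_apply]
  exact ⟨_, h1, by rw [← h.Ψ_repr, ← h1]⟩

theorem Ψ_inj : Function.Injective (h.Ψ ρ) := by
  rw [← LinearMap.ker_eq_bot]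
  by_contra h0
  obtain ⟨x, hx, h1⟩ := (Submodule.ne_bot_iff _).1 (inf_fx_ne_bot (ρ := piRep σ _) hP (fun s _ x hx => by
    rw [LinearMap.mem_ker, h.Ψ_mem, LinearMap.mem_ker.1 hx, map_zero]) h0)
  obtain ⟨θ, h2, h3⟩ := h.Ψ_fix hx.2
  rw [show θ = 0 from Subtype.ext (h.eq_zero θ.2 (h3.symm.trans hx.1))] at h2
  exact h1 (by rw [h2]; funext i; simp)

theorem mem_fx_Ψ {B : Subgroup T} {x : Fin (finrank k (Hom σ ρ)) → W} : h.Ψ ρ x ∈ fx ρ B ↔ ∀ i, x i ∈ fx σ B :=
  ⟨fun hx i b hb => congrFun (h.Ψ_inj hP ((h.Ψ_mem b x).trans (hx b hb))) i,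
    fun hx b hb => (h.Ψ_mem b x).symm.trans (congrArg _ (funext fun i => hx i b hb))⟩

theorem Iso_fx : Iso σ ρ ⊓ fx ρ P ≤ Hv σ ρ c := by
  rw [← h.range_Ψ]
  rintro _ ⟨⟨x, rfl⟩, hx⟩
  obtain ⟨θ, -, h3⟩ := h.Ψ_fix fun b hb => funext fun i => (h.mem_fx_Ψ hP).1 hx i b hb
  exact ⟨θ, θ.2, h3.symm⟩

variable [FiniteDimensional k W]

theorem finrank_fx (B : Subgroup T) : finrank k ↥(Iso σ ρ ⊓ fx ρ B) = finrank k (Hom σ ρ) * finrank k (fx σ B) := by
  have h1 : Iso σ ρ ⊓ fx ρ B = LinearMap.range (h.Ψ ρ ∘ₗ (fx σ B).subtype.compLeft _) := by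
    rw [← h.range_Ψ]
    refine le_antisymm ?_ ?_
    · rintro _ ⟨⟨x, rfl⟩, hx⟩
      exact ⟨fun i => ⟨x i, (h.mem_fx_Ψ hP).1 hx i⟩, rfl⟩
    · rintro _ ⟨x, rfl⟩
      exact ⟨⟨_, rfl⟩, (h.mem_fx_Ψ hP).2 fun i => (x i).2⟩
  rw [h1, LinearMap.finrank_range_of_inj (f := h.Ψ ρ ∘ₗ (fx σ B).subtype.compLeft _)
    ((h.Ψ_inj hP).comp fun x y e => funext fun i => Subtype.ext (congrFun e i)), Module.finrank_pi_fintype, Finset.sum_const, Finset.card_univ, Fintype.card_fin, smul_eq_mul]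

/-- an outer automorphism -/
theorem outer {Ξ : Module.End k W} (hΞ : Ξ ^ p = 1) {y : Module.End k U} (hy : y ^ p = 1)
    (hH : ∀ θ ∈ Hom σ ρ, y ∘ₗ θ ∘ₗ Ξ ∈ Hom σ ρ) (B : Subgroup T) :
    finrank k ↥(Iso σ ρ ⊓ fx ρ B ⊓ LinearMap.ker (y - 1)) ≤
      finrank k (Hom σ ρ) * finrank k ↥(fx σ B ⊓ LinearMap.ker (Ξ - 1)) := by
  have hp := (Fact.out : p.Prime).pos
  let τ : Module.End k (Hom σ ρ) :=
    { toFun := fun θ => ⟨_, hH θ θ.2⟩
      map_add' := fun a b => Subtype.ext (LinearMap.ext fun F => map_add y _ _)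
      map_smul' := fun a b => Subtype.ext (LinearMap.ext fun F => map_smul y _ _) }
  have h1 : ∀ (m : ℕ) θ F, ((τ ^ m) θ).1 F = (y ^ m) (θ.1 ((Ξ ^ m) F)) := fun m θ => by
    induction m with
    | zero => exact fun _ => rfl
    | succ m ih => intro F; rw [pow_succ', pow_succ', pow_succ]; exact congrArg y (ih _)
  have h3 : τ ^ p = 1 := LinearMap.ext fun θ => Subtype.ext (LinearMap.ext fun F => by rw [h1, hy, hΞ]; rfl)
  have h5 : finrank k ↥(Iso σ ρ ⊓ fx ρ B ⊓ LinearMap.ker (y - 1)) =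
      finrank k ((Iso σ ρ ⊓ fx ρ B ⊓ LinearMap.ker (y - 1)).comap (h.Ψ ρ)) := by
    rw [(Submodule.equivMapOfInjective _ (h.Ψ_inj hP) _).finrank_eq, Submodule.map_comap_eq_self]
    rw [h.range_Ψ]
    exact inf_le_left.trans inf_le_left
  rw [h5]
  refine finrank_le_of_basis (h.bs ρ) h3 _ _ _ fun x hx i => ⟨(h.mem_fx_Ψ hP).1 hx.1.2 i, ?_⟩
  have h6 : ∀ F, Ξ ((Ξ ^ (p - 1)) F) = F := fun F => by
    rw [← Module.End.mul_apply, ← pow_succ', Nat.sub_add_cancel hp, hΞ]; rfl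
  have h7 : x = ∑ j, fun i => (h.bs ρ).repr (τ (h.bs ρ j)) i • (Ξ ^ (p - 1)) (x j) := by
    apply h.Ψ_inj hP
    rw [← sub_eq_zero.1 (show y (h.Ψ ρ x) - h.Ψ ρ x = 0 from hx.2), map_sum, Ψ_apply, map_sum]
    refine Finset.sum_congr rfl fun j _ => ?_
    rw [h.Ψ_repr]
    exact congrArg (fun F => y ((h.bs ρ j).1 F)) (h6 _).symm
  conv_lhs => rw [h7]
  rw [Finset.sum_apply, map_sum]
  exact Finset.sum_congr rfl fun j _ => by rw [map_smul, h6]

end Cyc

/-- independence of invariant subspaces -/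
theorem indep_of_fx {p : ℕ} [Fact p.Prime] [CharP k p] {P : Subgroup T} [Finite P] (hP : IsPGroup p P) {I : Type*}
    {X : I → Submodule k U} (hX : ∀ i, Inv ρ P (X i)) (h : iSupIndep fun i => X i ⊓ fx ρ P) : iSupIndep X := by
  classical
  rw [iSupIndep_iff_finsetSum_eq_zero_imp_eq_zero] at h ⊢
  intro s v hv h0
  let K : Submodule k (I → U) :=
    { carrier := {x | (∀ i ∈ s, x i ∈ X i) ∧ (∀ i ∉ s, x i = 0) ∧ ∑ i ∈ s, x i = 0}
      add_mem' := fun {a b} ha hb => ⟨fun i hi => add_mem (ha.1 i hi) (hb.1 i hi),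
        fun i hi => by rw [Pi.add_apply, ha.2.1 i hi, hb.2.1 i hi, add_zero],
        by simp only [Pi.add_apply, Finset.sum_add_distrib, ha.2.2, hb.2.2, add_zero]⟩
      zero_mem' := ⟨fun i _ => zero_mem _, fun _ _ => rfl, Finset.sum_const_zero⟩
      smul_mem' := fun a x hx => ⟨fun i hi => (X i).smul_mem a (hx.1 i hi),
        fun i hi => by rw [Pi.smul_apply, hx.2.1 i hi, smul_zero],
        by simp only [Pi.smul_apply, ← Finset.smul_sum, hx.2.2, smul_zero]⟩ }
  have h1 : K = ⊥ := by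
    by_contra h1
    obtain ⟨x, hx, h2⟩ := (Submodule.ne_bot_iff _).1 (inf_fx_ne_bot (ρ := piRep ρ I) (W := K) hP (fun b hb x hx =>
      ⟨fun i hi => hX i b hb _ (hx.1 i hi), fun i hi => (congrArg (ρ b) (hx.2.1 i hi)).trans (map_zero _),
        (map_sum (ρ b) x s).symm.trans ((congrArg (ρ b) hx.2.2).trans (map_zero _))⟩) h1)
    refine h2 (funext fun i => ?_)
    by_cases hi : i ∈ s
    · exact h s x (fun i hi => ⟨hx.1.1 i hi, fun b hb => congrFun (hx.2 b hb) i⟩) hx.1.2.2 i hi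
    · exact hx.1.2.1 i hi
  intro i hi
  have h2 : (fun i => if i ∈ s then v i else 0) ∈ K := ⟨fun i hi => by simpa only [if_pos hi] using hv i hi,
    fun i hi => if_neg hi, (Finset.sum_congr rfl fun i hi => if_pos hi).trans h0⟩
  rw [h1] at h2
  simpa only [if_pos hi, Pi.zero_apply] using congrFun ((Submodule.mem_bot k).1 h2) i

end Cfsg.Agent.TwoF.DC
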